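import Cfsg.Agent.Base.Laws.Unitary

/-!
A nontrivial word is a law in only finitely many alternating and classical simple groups.
-/

namespace CfsgLib.Base.Laws

open Matrix

/-- There is a finite group, of bounded size, in which the word is not a law modulo the centre. -/
theorem exists_threshold {w : FreeGroup ℕ} (hw : w ≠ 1) :
    ∃ N₀ : ℕ, 5 ≤ N₀ ∧ ∀ n, N₀ ≤ n → NotLawModCenter (alternatingGroup (Fin n)) w := by
  obtain ⟨p, hp1, hp⟩ := Nat.exists_infinite_primes (bound w + 1)
  have : Fact p.Prime := ⟨hp⟩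
  have hK := notLaw_SL2 (F := ZMod p) hw (by rw [ZMod.card]; omega)
  refine ⟨2 * Nat.card (SpecialLinearGroup (Fin 2) (ZMod p)) + 5, by omega, fun n hn => ?_⟩
  obtain ⟨φ, hφ⟩ := exists_hom_alternating (SpecialLinearGroup (Fin 2) (ZMod p)) (n := n) (by omega)
  exact hK.of_injective φ hφ

theorem SL2_perfect (F : Type*) [Field F] [Fintype F] (h : 4 ≤ Fintype.card F) :
    commutator (SpecialLinearGroup (Fin 2) F) = ⊤ := by
  classical
  obtain ⟨a, ha⟩ : ∃ a : F, a ∉ ({0, 1, -1} : Finset F) := by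
    by_contra hc
    push Not at hc
    have h1 : Finset.univ.card ≤ ({0, 1, -1} : Finset F).card := Finset.card_le_card fun x _ => hc x
    have h2 : ({0, 1, -1} : Finset F).card ≤ 3 := Finset.card_le_three
    rw [Finset.card_univ] at h1
    omega
  have ha' : a ≠ 0 ∧ a ≠ 1 ∧ a ≠ -1 := by simpa using ha
  refine Matrix.SL2.commutator_eq_top (a := a) ha'.1 fun h2 => ?_
  rcases sq_eq_one_iff.1 h2 with h3 | h3
  · exact ha'.2.1 h3
  · exact ha'.2.2 h3

theorem card_matrix_subgroup_le {F : Type*} [Field F] [Fintype F] {ι : Type} [Fintype ι]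
    [DecidableEq ι] {H : Type*} (f : H → Matrix ι ι F) (hf : Function.Injective f) :
    Nat.card H ≤ Fintype.card F ^ (Fintype.card ι * Fintype.card ι) := by
  refine (Nat.card_le_card_of_injective f hf).trans (le_of_eq ?_)
  show Nat.card (ι → ι → F) = _
  simp [Nat.card_eq_fintype_card, ← pow_mul]

theorem card_quotient_le {H : Type*} [Group H] [Finite H] (N : Subgroup H) :
    Nat.card (H ⧸ N) ≤ Nat.card H :=
  Nat.card_le_card_of_surjective _ (QuotientGroup.mk_surjective)

/-- the size bound for one of the families -/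
theorem pow_bound {q Q d D : ℕ} (hq : q ≤ Q) (hQ : 1 ≤ Q) (hd : d ≤ D) : q ^ (d * d) ≤ Q ^ (D * D) :=
  (Nat.pow_le_pow_left hq _).trans (Nat.pow_le_pow_right hQ (Nat.mul_le_mul hd hd))

theorem not_law_transfer {G H : Type*} [Group G] [Group H] {w : FreeGroup ℕ} (e : G ≃* H)
    (hlaw : ∀ f : ℕ → G, FreeGroup.lift f w = 1) : ¬ ∃ f : ℕ → H, FreeGroup.lift f w ≠ 1 := by
  rintro ⟨f, hf⟩
  apply hf
  have h := lift_comp e.toMonoidHom (fun i => e.symm (f i)) w
  rw [hlaw, map_one] at h
  simpa using h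

/-- The finiteness statement. -/
theorem classical_law_bound {w : FreeGroup ℕ} (hw : w ≠ 1) :
    ∃ N : ℕ, ∀ (G : Type*) [Group G] [Finite G],
      (Cfsg.IsAlternating G ∨ Cfsg.IsPSL G ∨ Cfsg.IsPSp G ∨ Cfsg.IsPSU G ∨ Cfsg.IsPOmegaOdd G ∨
          Cfsg.IsPOmegaPlus G ∨ Cfsg.IsPOmegaMinus G) →
      (∀ f : ℕ → G, FreeGroup.lift f w = 1) → Nat.card G ≤ N := by
  obtain ⟨N₀, hN5, hA⟩ := exists_threshold hw
  set Q := (bound w + 4) ^ 2 with hQ
  have hQb : bound w + 4 ≤ Q := Nat.le_self_pow two_ne_zero _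
  refine ⟨max N₀.factorial (Q ^ ((2 * N₀ + 2) * (2 * N₀ + 2))), fun G _ _ hG hlaw => ?_⟩
  by_contra hbig
  push Not at hbig
  rw [max_lt_iff] at hbig
  have hQ1 : 1 ≤ Q := by omega
  rcases hG with h | h | h | h | h | h | h
  · obtain ⟨n, -, ⟨e⟩⟩ := h
    rcases Nat.lt_or_ge n N₀ with hn | hn
    · have h1 : Nat.card G ≤ N₀.factorial := by
        rw [Nat.card_congr e.toEquiv]
        refine le_trans (Subgroup.card_le_card_group _) ?_
        rw [Nat.card_perm, Nat.card_fin]
        exact Nat.factorial_le hn.le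
      omega
    · obtain ⟨f, g, hfg⟩ := hA n hn
      exact not_law_transfer e hlaw ⟨f, fun h1 => hfg (by rw [h1, one_mul, mul_one])⟩
  · obtain ⟨F, _, _, n, hn2, -, ⟨e⟩⟩ := h
    apply not_law_transfer e hlaw
    apply NotLawModCenter.quotient
    rcases Nat.lt_or_ge (bound w) (Fintype.card F) with hq | hq
    · obtain ⟨φ, hφ⟩ := exists_SL2_to_SL F hn2
      exact (notLaw_SL2 hw hq).of_injective φ hφ
    rcases Nat.lt_or_ge n N₀ with hn | hn
    · exfalso
      rw [Nat.card_congr e.toEquiv] at hbig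
      have h1 := card_quotient_le (Subgroup.center (SpecialLinearGroup (Fin n) F))
      have h2 := card_matrix_subgroup_le
        (fun A : SpecialLinearGroup (Fin n) F => (A : Matrix (Fin n) (Fin n) F))
        (fun _ _ h => Subtype.ext h)
      have h3 := pow_bound (q := Fintype.card F) (Q := Q) (d := n) (D := 2 * N₀ + 2) (by omega) hQ1 (by omega)
      rw [Fintype.card_fin] at h2
      exact absurd (h1.trans (h2.trans h3)) (not_le.2 hbig.2)
    · obtain ⟨φ, hφ⟩ := exists_alt_to_SL F n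
      exact (hA n hn).of_injective φ hφ
  · obtain ⟨F, _, _, m, hm2, -, ⟨e⟩⟩ := h
    apply not_law_transfer e hlaw
    apply NotLawModCenter.quotient
    obtain ⟨ψ, hψ⟩ := exists_SL_to_Sp m F
    rcases Nat.lt_or_ge (bound w) (Fintype.card F) with hq | hq
    · obtain ⟨φ, hφ⟩ := exists_SL2_to_SL F hm2
      exact ((notLaw_SL2 hw hq).of_injective φ hφ).of_injective ψ hψ
    rcases Nat.lt_or_ge m N₀ with hn | hn
    · exfalso
      rw [Nat.card_congr e.toEquiv] at hbig
      have hfin : Finite (Matrix.symplecticGroup (Fin m) F) := inferInstance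
      have h1 := card_quotient_le (Subgroup.center (Matrix.symplecticGroup (Fin m) F))
      have h2 := card_matrix_subgroup_le
        (fun A : Matrix.symplecticGroup (Fin m) F => (A : Matrix (Fin m ⊕ Fin m) (Fin m ⊕ Fin m) F))
        (fun _ _ h => Subtype.ext h)
      have h3 := pow_bound (q := Fintype.card F) (Q := Q) (d := m + m) (D := 2 * N₀ + 2) (by omega) hQ1 (by omega)
      rw [Fintype.card_sum, Fintype.card_fin] at h2
      exact absurd (h1.trans (h2.trans h3)) (not_le.2 hbig.2)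
    · obtain ⟨φ, hφ⟩ := exists_alt_to_SL F m
      exact ((hA m hn).of_injective φ hφ).of_injective ψ hψ
  · obtain ⟨F, _, _, n, q, hq2, hn3, -, ⟨e⟩⟩ := h
    apply not_law_transfer e hlaw
    apply NotLawModCenter.quotient
    rcases Nat.lt_or_ge (bound w + 1) q with hq | hq
    · obtain ⟨K, φ, hφ, hK⟩ := exists_SL2_to_SU (by omega : 2 ≤ n) hq2
      have : Fintype K := Fintype.ofFinite K
      exact (notLaw_SL2 (F := K) hw (by rw [← Nat.card_eq_fintype_card]; omega)).of_injective φ hφ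
    rcases Nat.lt_or_ge n N₀ with hn | hn
    · exfalso
      rw [Nat.card_congr e.toEquiv] at hbig
      have h1 := card_quotient_le (Subgroup.center (Cfsg.SU n F q))
      have h2 := card_matrix_subgroup_le
        (fun A : Cfsg.SU n F q => ((A : SpecialLinearGroup (Fin n) F) : Matrix (Fin n) (Fin n) F))
        (fun _ _ h => Subtype.ext (Subtype.ext h))
      have hqQ : Fintype.card F ≤ Q := by rw [hq2, hQ]; exact Nat.pow_le_pow_left (by omega) 2
      have h3 := pow_bound (q := Fintype.card F) (Q := Q) (d := n) (D := 2 * N₀ + 2) hqQ hQ1 (by omega)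
      rw [Fintype.card_fin] at h2
      exact absurd (h1.trans (h2.trans h3)) (not_le.2 hbig.2)
    · obtain ⟨φ, hφ⟩ := exists_alt_to_SU n hq2
      exact (hA n hn).of_injective φ hφ
  all_goals
    obtain ⟨F, _, _, m, h⟩ := h
  · obtain ⟨hm, -, ⟨e⟩⟩ := h
    apply not_law_transfer e hlaw
    apply NotLawModCenter.quotient
    rcases Nat.lt_or_ge (bound w + 3) (Fintype.card F) with hq | hq
    · obtain ⟨φ, hφ⟩ := exists_SL2_to_SL F (by omega : 2 ≤ m)
      obtain ⟨ψ, hψ⟩ := exists_to_OmegaOdd (SL2_perfect F (by omega)) φ hφ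
      exact (notLaw_SL2 hw (by omega)).of_injective ψ hψ
    rcases Nat.lt_or_ge m N₀ with hn | hn
    · exfalso
      rw [Nat.card_congr e.toEquiv] at hbig
      have h1 := card_quotient_le (Subgroup.center (Cfsg.Omega F (Cfsg.quadFormOdd m F)))
      have h2 := card_matrix_subgroup_le
        (fun A : Cfsg.Omega F (Cfsg.quadFormOdd m F) =>
          (A.1.1.1 : Matrix (Unit ⊕ (Fin m ⊕ Fin m)) (Unit ⊕ (Fin m ⊕ Fin m)) F))
        (fun _ _ h => Subtype.ext (Subtype.ext (Units.ext h)))
      have h3 := pow_bound (q := Fintype.card F) (Q := Q) (d := 1 + (m + m)) (D := 2 * N₀ + 2) (by omega) hQ1 (by omega)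
      simp only [Fintype.card_sum, Fintype.card_fin, Fintype.card_unit] at h2
      exact absurd (h1.trans (h2.trans h3)) (not_le.2 hbig.2)
    · obtain ⟨φ, hφ⟩ := exists_alt_to_SL F m
      obtain ⟨ψ, hψ⟩ := exists_to_OmegaOdd
        (commutator_alternatingGroup_eq_top (by rw [Nat.card_fin]; omega)) φ hφ
      exact (hA m hn).of_injective ψ hψ
  · obtain ⟨hm, ⟨e⟩⟩ := h
    apply not_law_transfer e hlaw
    apply NotLawModCenter.quotient
    rcases Nat.lt_or_ge (bound w + 3) (Fintype.card F) with hq | hq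
    · obtain ⟨φ, hφ⟩ := exists_SL2_to_SL F (by omega : 2 ≤ m)
      obtain ⟨ψ, hψ⟩ := exists_to_OmegaPlus (SL2_perfect F (by omega)) φ hφ
      exact (notLaw_SL2 hw (by omega)).of_injective ψ hψ
    rcases Nat.lt_or_ge m N₀ with hn | hn
    · exfalso
      rw [Nat.card_congr e.toEquiv] at hbig
      have h1 := card_quotient_le (Subgroup.center (Cfsg.Omega F (Cfsg.quadFormPlus m F)))
      have h2 := card_matrix_subgroup_le
        (fun A : Cfsg.Omega F (Cfsg.quadFormPlus m F) =>
          (A.1.1.1 : Matrix (Fin m ⊕ Fin m) (Fin m ⊕ Fin m) F))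
        (fun _ _ h => Subtype.ext (Subtype.ext (Units.ext h)))
      have h3 := pow_bound (q := Fintype.card F) (Q := Q) (d := m + m) (D := 2 * N₀ + 2) (by omega) hQ1 (by omega)
      simp only [Fintype.card_sum, Fintype.card_fin] at h2
      exact absurd (h1.trans (h2.trans h3)) (not_le.2 hbig.2)
    · obtain ⟨φ, hφ⟩ := exists_alt_to_SL F m
      obtain ⟨ψ, hψ⟩ := exists_to_OmegaPlus
        (commutator_alternatingGroup_eq_top (by rw [Nat.card_fin]; omega)) φ hφ
      exact (hA m hn).of_injective ψ hψ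
  · obtain ⟨a, b, hm, -, ⟨e⟩⟩ := h
    apply not_law_transfer e hlaw
    apply NotLawModCenter.quotient
    rcases Nat.lt_or_ge (bound w + 3) (Fintype.card F) with hq | hq
    · obtain ⟨φ, hφ⟩ := exists_SL2_to_SL F (by omega : 2 ≤ m - 1)
      obtain ⟨ψ, hψ⟩ := exists_to_OmegaMinus a b (SL2_perfect F (by omega)) φ hφ
      exact (notLaw_SL2 hw (by omega)).of_injective ψ hψ
    rcases Nat.lt_or_ge (m - 1) N₀ with hn | hn
    · exfalso
      rw [Nat.card_congr e.toEquiv] at hbig
      have h1 := card_quotient_le (Subgroup.center (Cfsg.Omega F (Cfsg.quadFormMinus (m - 1) F a b)))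
      have h2 := card_matrix_subgroup_le
        (fun A : Cfsg.Omega F (Cfsg.quadFormMinus (m - 1) F a b) =>
          (A.1.1.1 : Matrix ((Fin (m - 1) ⊕ Fin (m - 1)) ⊕ Fin 2) ((Fin (m - 1) ⊕ Fin (m - 1)) ⊕ Fin 2) F))
        (fun _ _ h => Subtype.ext (Subtype.ext (Units.ext h)))
      have h3 := pow_bound (q := Fintype.card F) (Q := Q) (d := (m - 1) + (m - 1) + 2)
        (D := 2 * N₀ + 2) (by omega) hQ1 (by omega)
      simp only [Fintype.card_sum, Fintype.card_fin] at h2
      exact absurd (h1.trans (h2.trans h3)) (not_le.2 hbig.2)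
    · obtain ⟨φ, hφ⟩ := exists_alt_to_SL F (m - 1)
      obtain ⟨ψ, hψ⟩ := exists_to_OmegaMinus a b
        (commutator_alternatingGroup_eq_top (by rw [Nat.card_fin]; omega)) φ hφ
      exact (hA _ hn).of_injective ψ hψ

end CfsgLib.Base.Laws
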