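import Cfsg.Agent.Base.Laws.Words
import Cfsg.Prelude.Def_Classical

/-!
Embeddings of small groups into the classical groups.
-/

namespace CfsgLib.Base.Laws

open Matrix

/-- A finite group embeds in every large alternating group. -/
theorem exists_hom_alternating (K : Type*) [Group K] [Finite K] {n : ℕ}
    (hn : 2 * Nat.card K ≤ n) :
    ∃ φ : K →* alternatingGroup (Fin n), Function.Injective φ := by
  classical
  have : Fintype K := Fintype.ofFinite K
  have hc : Fintype.card (K ⊕ K) ≤ Fintype.card (Fin n) := by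
    rw [Fintype.card_sum, Fintype.card_fin, ← Nat.card_eq_fintype_card]; omega
  obtain ⟨ι⟩ := Function.Embedding.nonempty_of_card_le hc
  let c : K →* Equiv.Perm K := MulAction.toPermHom K K
  let ψ : K →* Equiv.Perm (K ⊕ K) := (Equiv.Perm.sumCongrHom K K).comp (c.prod c)
  let φ : K →* Equiv.Perm (Fin n) := (Equiv.Perm.viaEmbeddingHom ι).comp ψ
  have hsign : ∀ g, φ g ∈ alternatingGroup (Fin n) := by
    intro g
    rw [Equiv.Perm.mem_alternatingGroup]
    show Equiv.Perm.sign (Equiv.Perm.viaEmbeddingHom ι (Equiv.sumCongr (c g) (c g))) = 1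
    rw [Equiv.Perm.viaEmbeddingHom_apply]
    unfold Equiv.Perm.viaEmbedding
    rw [Equiv.Perm.sign_extendDomain, Equiv.Perm.sign_sumCongr]
    exact Int.units_mul_self _
  refine ⟨φ.codRestrict _ hsign, fun a b h => ?_⟩
  have h1 : φ a = φ b := congrArg Subtype.val h
  have h2 := Equiv.Perm.sumCongrHom_injective (Equiv.Perm.viaEmbeddingHom_injective ι h1)
  exact MulAction.toPerm_injective (congrArg Prod.fst h2 : c a = c b)

variable {G : Type*} [Group G] {ι : Type} [Fintype ι] [DecidableEq ι]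

/-- a matrix representation of determinant one, as a map into `SL` -/
def toSLHom {F : Type*} [CommRing F] (φ : G →* Matrix ι ι F) (h : ∀ g, (φ g).det = 1) :
    G →* SpecialLinearGroup ι F where
  toFun g := ⟨φ g, h g⟩
  map_one' := Subtype.ext (map_one φ)
  map_mul' a b := Subtype.ext (map_mul φ a b)

theorem toSLHom_injective {F : Type*} [CommRing F] {φ : G →* Matrix ι ι F}
    {h : ∀ g, (φ g).det = 1} (hφ : Function.Injective φ) : Function.Injective (toSLHom φ h) :=
  fun _ _ e => hφ (congrArg Subtype.val e)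

/-- permutation matrices, homomorphically -/
def permHom (n : ℕ) (F : Type*) [CommRing F] :
    alternatingGroup (Fin n) →* Matrix (Fin n) (Fin n) F where
  toFun σ := (σ.1⁻¹).permMatrix F
  map_one' := by simp
  map_mul' a b := by
    show ((a.1 * b.1)⁻¹).permMatrix F = _
    rw [_root_.mul_inv_rev]
    exact Matrix.permMatrix_mul _ _

theorem permHom_mulVec (n : ℕ) (F : Type*) [CommRing F] (σ : alternatingGroup (Fin n))
    (v : Fin n → F) : permHom n F σ *ᵥ v = v ∘ (σ.1⁻¹ : Equiv.Perm (Fin n)) :=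
  Matrix.permMatrix_mulVec _

theorem permHom_det (n : ℕ) (F : Type*) [CommRing F] (σ : alternatingGroup (Fin n)) :
    (permHom n F σ).det = 1 := by
  show ((σ.1⁻¹).permMatrix F).det = 1
  rw [Matrix.det_permutation, Equiv.Perm.sign_inv, Equiv.Perm.mem_alternatingGroup.1 σ.2]
  simp

theorem permHom_injective (n : ℕ) (F : Type*) [CommRing F] [Nontrivial F] :
    Function.Injective (permHom n F) := by
  intro a b h
  apply Subtype.ext
  apply inv_injective
  ext i
  have h1 := congrArg (fun M : Matrix (Fin n) (Fin n) F =>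
    (M *ᵥ Pi.single ((a.1⁻¹ : Equiv.Perm (Fin n)) i) 1) i) h
  simp only [permHom_mulVec, Function.comp] at h1
  by_contra hne
  have hne' : ((b.1⁻¹ : Equiv.Perm (Fin n)) i) ≠ ((a.1⁻¹ : Equiv.Perm (Fin n)) i) :=
    fun e => hne (congrArg Fin.val e.symm)
  rw [Pi.single_eq_same, Pi.single_eq_of_ne hne'] at h1
  exact one_ne_zero h1

/-- top left `2 × 2` block -/
def blockHom (k : ℕ) (F : Type*) [CommRing F] :
    SpecialLinearGroup (Fin 2) F →* Matrix (Fin (2 + k)) (Fin (2 + k)) F where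
  toFun A := (Matrix.fromBlocks (A : Matrix (Fin 2) (Fin 2) F) 0 0 1).submatrix
    finSumFinEquiv.symm finSumFinEquiv.symm
  map_one' := by simp [Matrix.fromBlocks_one]
  map_mul' A B := by
    rw [Matrix.submatrix_mul_equiv, Matrix.fromBlocks_multiply]
    simp

theorem blockHom_det (k : ℕ) (F : Type*) [CommRing F] (A : SpecialLinearGroup (Fin 2) F) :
    (blockHom k F A).det = 1 := by
  simp [blockHom, Matrix.det_submatrix_equiv_self, Matrix.det_fromBlocks_zero₁₂]

theorem blockHom_injective (k : ℕ) (F : Type*) [CommRing F] :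
    Function.Injective (blockHom k F) := by
  intro A B h
  have h1 := congrArg (fun M : Matrix (Fin (2 + k)) (Fin (2 + k)) F =>
    M.submatrix finSumFinEquiv finSumFinEquiv) h
  simp [blockHom, Matrix.fromBlocks_inj] at h1
  exact Subtype.ext h1

theorem exists_SL2_to_SL (F : Type*) [CommRing F] {n : ℕ} (hn : 2 ≤ n) :
    ∃ φ : SpecialLinearGroup (Fin 2) F →* SpecialLinearGroup (Fin n) F, Function.Injective φ := by
  obtain ⟨k, rfl⟩ := Nat.exists_eq_add_of_le hn
  exact ⟨toSLHom _ (blockHom_det k F), toSLHom_injective (blockHom_injective k F)⟩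

theorem exists_alt_to_SL (F : Type*) [CommRing F] [Nontrivial F] (n : ℕ) :
    ∃ φ : alternatingGroup (Fin n) →* SpecialLinearGroup (Fin n) F, Function.Injective φ :=
  ⟨toSLHom _ (permHom_det n F), toSLHom_injective (permHom_injective n F)⟩

/-- Levi factor: `A ↦ diag(A, A⁻ᵀ)` -/
def leviHom (m : ℕ) (F : Type*) [CommRing F] :
    SpecialLinearGroup (Fin m) F →* Matrix (Fin m ⊕ Fin m) (Fin m ⊕ Fin m) F where
  toFun A := Matrix.fromBlocks (A : Matrix (Fin m) (Fin m) F) 0 0
    ((A⁻¹ : SpecialLinearGroup (Fin m) F) : Matrix (Fin m) (Fin m) F)ᵀ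
  map_one' := by rw [inv_one]; simp [Matrix.fromBlocks_one]
  map_mul' A B := by
    show Matrix.fromBlocks (A.1 * B.1) 0 0 ((A * B)⁻¹).1ᵀ =
      Matrix.fromBlocks A.1 0 0 (A⁻¹).1ᵀ * Matrix.fromBlocks B.1 0 0 (B⁻¹).1ᵀ
    have h : ((A * B)⁻¹).1 = (B⁻¹).1 * (A⁻¹).1 := congrArg Subtype.val (_root_.mul_inv_rev A B)
    rw [h, Matrix.fromBlocks_multiply, Matrix.transpose_mul]
    simp

theorem leviHom_injective (m : ℕ) (F : Type*) [CommRing F] : Function.Injective (leviHom m F) :=
  fun _ _ h => Subtype.ext (Matrix.fromBlocks_inj.1 h).1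

theorem levi_inv_mul {m : ℕ} {F : Type*} [CommRing F] (A : SpecialLinearGroup (Fin m) F) :
    ((A⁻¹ : SpecialLinearGroup (Fin m) F) : Matrix (Fin m) (Fin m) F) * A = 1 := by
  exact congrArg Subtype.val (inv_mul_cancel A)

theorem leviHom_mem (m : ℕ) (F : Type*) [CommRing F] (A : SpecialLinearGroup (Fin m) F) :
    leviHom m F A ∈ Matrix.symplecticGroup (Fin m) F := by
  have h2 : A.1 * A.1.adjugate = 1 := by rw [Matrix.mul_adjugate, A.2, one_smul]
  rw [SymplecticGroup.mem_iff]
  simp only [leviHom, MonoidHom.coe_mk, OneHom.coe_mk, Matrix.J, Matrix.fromBlocks_transpose,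
    Matrix.fromBlocks_multiply, Matrix.transpose_transpose]
  simp [h2, ← Matrix.transpose_mul]

theorem exists_SL_to_Sp (m : ℕ) (F : Type*) [Field F] :
    ∃ φ : SpecialLinearGroup (Fin m) F →* Matrix.symplecticGroup (Fin m) F,
      Function.Injective φ :=
  ⟨(leviHom m F).codRestrict _ (leviHom_mem m F),
    fun _ _ h => leviHom_injective m F (congrArg Subtype.val h)⟩

theorem levi_quad (m : ℕ) (F : Type*) [Field F] (A : SpecialLinearGroup (Fin m) F)
    (v : Fin m ⊕ Fin m → F) : Cfsg.quadFormPlus m F (leviHom m F A *ᵥ v) = Cfsg.quadFormPlus m F v := by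
  have key : (A : Matrix (Fin m) (Fin m) F) *ᵥ (v ∘ Sum.inl) ⬝ᵥ
      (((A⁻¹ : SpecialLinearGroup (Fin m) F) : Matrix (Fin m) (Fin m) F)ᵀ *ᵥ (v ∘ Sum.inr)) =
      (v ∘ Sum.inl) ⬝ᵥ (v ∘ Sum.inr) := by
    rw [Matrix.dotProduct_mulVec, Matrix.vecMul_transpose, Matrix.mulVec_mulVec, levi_inv_mul,
      Matrix.one_mulVec]
  simp only [dotProduct, Function.comp] at key
  simpa [Cfsg.quadFormPlus, leviHom, Matrix.fromBlocks_mulVec] using key

/-- pad with an identity block on the right -/
def padRight {κ : Type} [Fintype κ] [DecidableEq κ] {F : Type*} [CommRing F]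
    (φ : G →* Matrix ι ι F) : G →* Matrix (ι ⊕ κ) (ι ⊕ κ) F where
  toFun g := Matrix.fromBlocks (φ g) 0 0 1
  map_one' := by simp
  map_mul' a b := by simp [Matrix.fromBlocks_multiply]

/-- pad with an identity block on the left -/
def padLeft {κ : Type} [Fintype κ] [DecidableEq κ] {F : Type*} [CommRing F]
    (φ : G →* Matrix ι ι F) : G →* Matrix (κ ⊕ ι) (κ ⊕ ι) F where
  toFun g := Matrix.fromBlocks 1 0 0 (φ g)
  map_one' := by simp
  map_mul' a b := by simp [Matrix.fromBlocks_multiply]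

/-- A perfect group with an injective isometric representation maps into `Ω`. -/
theorem exists_to_Omega {F : Type*} [Field F] {Q : (ι → F) → F} (hG : commutator G = ⊤)
    (φ : G →* Matrix ι ι F) (hφ : Function.Injective φ) (hQ : ∀ g v, Q (φ g *ᵥ v) = Q v) :
    ∃ ψ : G →* Cfsg.Omega F Q, Function.Injective ψ := by
  let ψ₀ : G →* Cfsg.isometryGroup F Q :=
    φ.toHomUnits.codRestrict (Cfsg.isometryGroup F Q) (fun g u _ => hQ g u)
  have hmem : ∀ g, ψ₀ g ∈ Cfsg.Omega F Q := by
    intro g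
    have h1 : ψ₀ g ∈ (commutator G).map ψ₀ := ⟨g, hG ▸ Subgroup.mem_top g, rfl⟩
    rw [commutator_def, Subgroup.map_commutator] at h1
    exact Subgroup.commutator_mono le_top le_top h1
  refine ⟨ψ₀.codRestrict _ hmem, fun a b h => hφ ?_⟩
  exact congrArg (fun x : Cfsg.Omega F Q =>
    (((x : Cfsg.isometryGroup F Q) : GL ι F) : Matrix ι ι F)) h

theorem exists_to_OmegaPlus {F : Type*} [Field F] {m : ℕ} (hG : commutator G = ⊤)
    (φ : G →* SpecialLinearGroup (Fin m) F) (hφ : Function.Injective φ) :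
    ∃ ψ : G →* Cfsg.Omega F (Cfsg.quadFormPlus m F), Function.Injective ψ :=
  exists_to_Omega hG ((leviHom m F).comp φ) ((leviHom_injective m F).comp hφ)
    (fun g v => levi_quad m F (φ g) v)

theorem exists_to_OmegaOdd {F : Type*} [Field F] {m : ℕ} (hG : commutator G = ⊤)
    (φ : G →* SpecialLinearGroup (Fin m) F) (hφ : Function.Injective φ) :
    ∃ ψ : G →* Cfsg.Omega F (Cfsg.quadFormOdd m F), Function.Injective ψ := by
  refine exists_to_Omega hG (padLeft ((leviHom m F).comp φ) : G →* Matrix (Unit ⊕ (Fin m ⊕ Fin m)) _ F)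
    (fun a b h => hφ (leviHom_injective m F (Matrix.fromBlocks_inj.1 h).2.2.2)) (fun g v => ?_)
  have h := levi_quad m F (φ g) (v ∘ Sum.inr)
  simp [Cfsg.quadFormOdd, Cfsg.quadFormPlus, padLeft, Matrix.fromBlocks_mulVec] at h ⊢
  exact h

theorem exists_to_OmegaMinus {F : Type*} [Field F] {m : ℕ} (a b : F) (hG : commutator G = ⊤)
    (φ : G →* SpecialLinearGroup (Fin m) F) (hφ : Function.Injective φ) :
    ∃ ψ : G →* Cfsg.Omega F (Cfsg.quadFormMinus m F a b), Function.Injective ψ := by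
  refine exists_to_Omega hG (padRight ((leviHom m F).comp φ) : G →* Matrix ((Fin m ⊕ Fin m) ⊕ Fin 2) _ F)
    (fun a b h => hφ (leviHom_injective m F (Matrix.fromBlocks_inj.1 h).1)) (fun g v => ?_)
  have h := levi_quad m F (φ g) (v ∘ Sum.inl)
  simp [Cfsg.quadFormMinus, Cfsg.quadFormPlus, padRight, Matrix.fromBlocks_mulVec] at h ⊢
  exact h

end CfsgLib.Base.Laws
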