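import Cfsg.Agent.Base.Laws.Words

/-!
A nontrivial word is nontrivial modulo the centre of `SL₂` over every large field.
-/

namespace CfsgLib.Base.Laws

open Polynomial

section
variable {R : Type*} [CommRing R]

/-- `u(a) J u(-a)` on a vector. -/
def step2 (a : R) (v : R × R) : R × R := (-v.2 + a * (v.1 - a * v.2), v.1 - a * v.2)

/-- The image of the first basis vector under the product along the list. -/
def vec2 (a : ℕ → R) : List ℕ → R × R
  | [] => (1, 0)
  | k :: ks => step2 (a k) (vec2 a ks)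

theorem vec2_map {S : Type*} [CommRing S] (φ : R →+* S) (a : ℕ → R) : ∀ ks,
    vec2 (fun k => φ (a k)) ks = (φ (vec2 a ks).1, φ (vec2 a ks).2)
  | [] => by simp [vec2]
  | k :: ks => by simp [vec2, step2, vec2_map φ a ks]

/-- the conjugate of `J` by a unipotent -/
def inv2 (a : R) : Matrix.SpecialLinearGroup (Fin 2) R :=
  ⟨!![a, -1 - a * a; 1, -a], by simp [Matrix.det_fin_two_of]; ring⟩

theorem inv2_mul_self (a : R) : inv2 a * inv2 a = -1 := by
  apply Subtype.ext
  rw [Matrix.SpecialLinearGroup.coe_mul, Matrix.SpecialLinearGroup.coe_neg,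
    Matrix.SpecialLinearGroup.coe_one]
  show !![a, -1 - a * a; 1, -a] * !![a, -1 - a * a; 1, -a] = _
  ext i j
  fin_cases i <;> fin_cases j <;> simp [Matrix.mul_apply, Fin.sum_univ_two] <;> ring

theorem inv2_mul_inv (a b : R) : (inv2 a * inv2 b)⁻¹ = inv2 b * inv2 a := by
  apply inv_eq_of_mul_eq_one_right
  rw [mul_assoc, ← mul_assoc (inv2 b), inv2_mul_self, neg_mul, one_mul, mul_neg, inv2_mul_self,
    neg_neg]

theorem prod_inv2_col (a : ℕ → R) : ∀ ks : List ℕ,
    ((ks.map fun k => inv2 (a k)).prod : Matrix (Fin 2) (Fin 2) R) 0 0 = (vec2 a ks).1 ∧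
    ((ks.map fun k => inv2 (a k)).prod : Matrix (Fin 2) (Fin 2) R) 1 0 = (vec2 a ks).2
  | [] => by simp [vec2]
  | k :: ks => by
    obtain ⟨h0, h1⟩ := prod_inv2_col a ks
    simp only [List.map_cons, List.prod_cons, Matrix.SpecialLinearGroup.coe_mul, Matrix.mul_apply,
      Fin.sum_univ_two, vec2, step2, h0, h1]
    constructor <;> simp [inv2] <;> ring

end

variable {F : Type*} [Field F]

/-- the exponents -/
noncomputable def pw (k : ℕ) : F[X] := X ^ (k + 1)

theorem natDegree_pw_sub {j k : ℕ} (h : j ≠ k) :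
    (pw j - pw k : F[X]) ≠ 0 ∧ (pw j - pw k : F[X]).natDegree ≤ j + k + 2 ∧
      1 ≤ (pw j - pw k : F[X]).natDegree := by
  rcases lt_or_gt_of_ne h with h | h
  · have e : (pw j - pw k : F[X]).natDegree = k + 1 := by
      rw [natDegree_sub_eq_right_of_natDegree_lt (by simp [pw]; omega)]
      simp [pw]
    refine ⟨fun h0 => ?_, by omega, by omega⟩
    rw [h0, natDegree_zero] at e; omega
  · have e : (pw j - pw k : F[X]).natDegree = j + 1 := by
      rw [natDegree_sub_eq_left_of_natDegree_lt (by simp [pw]; omega)]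
      simp [pw]
    refine ⟨fun h0 => ?_, by omega, by omega⟩
    rw [h0, natDegree_zero] at e; omega

theorem vec2_degree : ∀ (ks : List ℕ) (k : ℕ), (k :: ks).IsChain (· ≠ ·) →
    ∃ p q : F[X], vec2 pw (k :: ks) = (p + pw k * q, q) ∧ q ≠ 0 ∧
      (p = 0 ∨ p.natDegree < q.natDegree) ∧
      q.natDegree + (k + 1) ≤ 2 * ((k :: ks).sum + (k :: ks).length)
  | [], k, _ => ⟨0, 1, by simp [vec2, step2], one_ne_zero, Or.inl rfl, by simp <;> omega⟩
  | l :: ks, k, h => by
    rw [List.isChain_cons_cons] at h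
    obtain ⟨p, q, e, hq, hp, hb⟩ := vec2_degree ks l h.2
    obtain ⟨hd0, hd1, hd2⟩ := natDegree_pw_sub (F := F) (Ne.symm h.1)
    refine ⟨-q, p + (pw l - pw k) * q, ?_, ?_⟩
    · show step2 (pw k) (vec2 pw (l :: ks)) = _
      rw [e]
      simp only [step2, Prod.mk.injEq]
      constructor <;> ring
    have hm : ((pw l - pw k) * q).natDegree = (pw l - pw k : F[X]).natDegree + q.natDegree :=
      natDegree_mul hd0 hq
    have hr : (p + (pw l - pw k) * q).natDegree = (pw l - pw k : F[X]).natDegree + q.natDegree := by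
      rcases hp with rfl | hp
      · rw [zero_add, hm]
      · rw [natDegree_add_eq_right_of_natDegree_lt (by omega), hm]
    refine ⟨fun h0 => ?_, Or.inr ?_, ?_⟩
    · rw [h0, natDegree_zero] at hr; omega
    · rw [natDegree_neg, hr]; omega
    · rw [hr]
      simp only [List.sum_cons, List.length_cons] at hb ⊢
      omega

/-- upper unitriangular -/
def upperOne (R : Type*) [CommRing R] : Matrix.SpecialLinearGroup (Fin 2) R :=
  ⟨!![1, 1; 0, 1], by simp [Matrix.det_fin_two_of]⟩

theorem coe_upperOne (R : Type*) [CommRing R] :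
    (upperOne R : Matrix (Fin 2) (Fin 2) R) = !![1, 1; 0, 1] := rfl

/-- degree bound attached to a word -/
def bound (w : FreeGroup ℕ) : ℕ := 2 * ((seqOf w).sum + (seqOf w).length)

theorem notLaw_SL2 [Fintype F] {w : FreeGroup ℕ} (hw : w ≠ 1) (hF : bound w < Fintype.card F) :
    NotLawModCenter (Matrix.SpecialLinearGroup (Fin 2) F) w := by
  obtain ⟨k, ks, hks⟩ := List.exists_cons_of_ne_nil (seqOf_ne_nil hw)
  have hch := seqOf_chain w
  rw [hks] at hch
  obtain ⟨p, q, he, hq, _, hb⟩ := vec2_degree (F := F) ks k hch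
  rw [← hks] at hb he
  obtain ⟨t, ht⟩ : ∃ t : F, q.eval t ≠ 0 := by
    by_contra hc
    push Not at hc
    apply hq
    exact Polynomial.eq_zero_of_natDegree_lt_card_of_eval_eq_zero q (f := id) Function.injective_id
      hc (lt_of_le_of_lt (le_trans (Nat.le_add_right _ _) hb) hF)
  refine ⟨fun i => inv2 (t ^ (2 * i + 1)) * inv2 (t ^ (2 * i + 1 + 1)), upperOne F, ?_⟩
  rw [lift_eq_prod (fun k => inv2 (t ^ (k + 1))) (fun a b => inv2_mul_inv _ _)]
  intro hc
  apply ht
  have h1 := (prod_inv2_col (fun k => t ^ (k + 1)) (seqOf w)).2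
  have h2 := vec2_map (Polynomial.evalRingHom t) (pw (F := F)) (seqOf w)
  rw [he] at h2
  have hpw : (fun k => Polynomial.evalRingHom t (pw k : F[X])) = fun k : ℕ => t ^ (k + 1) := by
    funext k; simp [pw]
  rw [hpw] at h2
  rw [h2] at h1
  have h3 := congrArg (fun A : Matrix.SpecialLinearGroup (Fin 2) F => (A : Matrix (Fin 2) (Fin 2) F) 1 1) hc
  simp only [Matrix.SpecialLinearGroup.coe_mul, Matrix.mul_apply, Fin.sum_univ_two, coe_upperOne]
    at h3
  simp [h1] at h3
  simpa using h3

end CfsgLib.Base.Laws
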