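import Cfsg.Agent.Base.Laws.Words
import Cfsg.Prelude.Def_Sz

/-!
A nontrivial word is not a law in large Suzuki groups.
-/

namespace CfsgLib.Base.Laws

open Matrix Polynomial

section
variable {R : Type*} [CommRing R]

/-- lower unitriangular Suzuki element `U(a, 0)` -/
def szU (e : ℕ) (a : R) : Matrix (Fin 4) (Fin 4) R :=
  !![1, 0, 0, 0; a, 1, 0, 0; a ^ (e + 1), a ^ e, 1, 0; a ^ (e + 2), 0, a, 1]

/-- `U(a,0)⁻¹ U(a',0)` -/
def szM (e : ℕ) (a a' : R) : Matrix (Fin 4) (Fin 4) R :=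
  !![1, 0, 0, 0; a + a', 1, 0, 0;
    (a + a') ^ (e + 1) + a * (a + a') ^ e, (a + a') ^ e, 1, 0;
    (a + a') ^ (e + 2) + a * (a + a') ^ (e + 1) + a ^ e * (a + a') ^ 2, a * (a + a') ^ e, a + a', 1]

/-- the antidiagonal element -/
def szJ : Matrix (Fin 4) (Fin 4) R := !![0, 0, 0, 1; 0, 0, 1, 0; 0, 1, 0, 0; 1, 0, 0, 0]

/-- the vector along an index list -/
def szVec (e : ℕ) (a : ℕ → R) : ℕ → List ℕ → Fin 4 → R
  | _, [] => ![1, 0, 0, 0]
  | k, l :: ks => szJ *ᵥ (szM e (a k) (a l) *ᵥ szVec e a l ks)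

theorem szVec_map {S : Type*} [CommRing S] (φ : R →+* S) (e : ℕ) (a : ℕ → R) : ∀ k ks i,
    szVec e (fun n => φ (a n)) k ks i = φ (szVec e a k ks i)
  | k, [], i => by fin_cases i <;> simp [szVec]
  | k, l :: ks, i => by
    have ih := szVec_map φ e a l ks
    fin_cases i <;>
      simp [szVec, szJ, szM, Matrix.mulVec, dotProduct, Fin.sum_univ_four, ih]

end

section
variable {F : Type*} [Field F]

/-- The hypotheses on the exponent. -/
structure SzExp (F : Type*) [Field F] (e : ℕ) : Prop where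
  two : (2 : F) = 0
  add : ∀ x y : F, (x + y) ^ e = x ^ e + y ^ e
  sq : ∀ x : F, (x ^ e) ^ e = x ^ 2

theorem SzExp.of_card [Fintype F] {m : ℕ} (hc : Fintype.card F = 2 ^ (2 * m + 1)) :
    SzExp F (2 ^ (m + 1)) := by
  have : CharP F 2 := charP_of_card_eq_prime_pow (f := 2 * m + 1) hc
  refine ⟨CharTwo.two_eq_zero, fun x y => add_pow_char_pow x y 2 (m + 1), fun x => ?_⟩
  rw [← pow_mul, ← pow_add, show m + 1 + (m + 1) = 2 * m + 1 + 1 by ring, pow_succ, pow_mul,
    ← hc, FiniteField.pow_card]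

variable {e : ℕ}

theorem szU_mul_szM (h : SzExp F e) (a a' : F) : szU e a * szM e a a' = szU e a' := by
  obtain ⟨c, rfl⟩ : ∃ c, a' = a + c := ⟨a' - a, by ring⟩
  have h2 := h.two
  have ha := h.add a c
  have h3 : a + (a + c) = c := by linear_combination a * h2
  ext i j
  fin_cases i <;> fin_cases j <;>
    simp [szU, szM, Matrix.mul_apply, Fin.sum_univ_four, h3, ha, pow_succ] <;>
    grind

theorem szJ_mul_self : (szJ : Matrix (Fin 4) (Fin 4) F) * szJ = 1 := by
  ext i j
  fin_cases i <;> fin_cases j <;> simp [szJ, Matrix.mul_apply, Fin.sum_univ_four]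

theorem szU_zero (he : e ≠ 0) : szU e (0 : F) = 1 := by
  ext i j
  fin_cases i <;> fin_cases j <;> simp [szU, he]

/-- `U(a,0)` in the general linear group -/
def szUnit (h : SzExp F e) (he : e ≠ 0) (a : F) : GL (Fin 4) F :=
  ⟨szU e a, szM e a 0, by rw [szU_mul_szM h, szU_zero he],
    mul_eq_one_comm.1 (by rw [szU_mul_szM h, szU_zero he])⟩

/-- the antidiagonal element in the general linear group -/
def szJUnit : GL (Fin 4) F := ⟨szJ, szJ, szJ_mul_self, szJ_mul_self⟩

theorem szUnit_mem (h : SzExp F e) (he : e ≠ 0) (a : F) :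
    szUnit h he a ∈ Cfsg.Lie.Sz F e := by
  have h2 := h.two
  apply Subgroup.subset_closure
  refine ⟨fun u v => ?_, ?_⟩
  · show Cfsg.Lie.altForm4 (szU e a *ᵥ u) (szU e a *ᵥ v) = Cfsg.Lie.altForm4 u v
    simp [Cfsg.Lie.altForm4, szU, Matrix.mulVec, dotProduct, Fin.sum_univ_four, pow_succ]
    grind
  · show Cfsg.Lie.star4 (szU e a) = (szU e a).map (fun x => x ^ e)
    have e1 : (a ^ (e + 1)) ^ e = a ^ 2 * a ^ e := by rw [pow_succ, mul_pow, h.sq]
    have e2 : (a ^ (e + 2)) ^ e = a ^ 2 * (a ^ e * a ^ e) := by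
      rw [show a ^ (e + 2) = a ^ e * a * a by ring, mul_pow, mul_pow, h.sq]; ring
    have e3 := h.sq a
    ext i j
    fin_cases i <;> fin_cases j <;>
      simp [szU, Cfsg.Lie.star4, Cfsg.Lie.pairOf, e1, e2, e3, he] <;> grind

theorem szJUnit_mem (h : SzExp F e) (he : e ≠ 0) : (szJUnit : GL (Fin 4) F) ∈ Cfsg.Lie.Sz F e := by
  have h2 := h.two
  apply Subgroup.subset_closure
  refine ⟨fun u v => ?_, ?_⟩
  · show Cfsg.Lie.altForm4 (szJ *ᵥ u) (szJ *ᵥ v) = Cfsg.Lie.altForm4 u v
    simp [Cfsg.Lie.altForm4, szJ, Matrix.mulVec, dotProduct, Fin.sum_univ_four]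
    ring
  · show Cfsg.Lie.star4 (szJ : Matrix (Fin 4) (Fin 4) F) = (szJ : Matrix (Fin 4) (Fin 4) F).map (fun x => x ^ e)
    ext i j
    fin_cases i <;> fin_cases j <;>
      simp [szJ, Cfsg.Lie.star4, Cfsg.Lie.pairOf, he] <;> grind

/-- the conjugated involution -/
def szInv (h : SzExp F e) (he : e ≠ 0) (a : F) : GL (Fin 4) F :=
  szUnit h he a * szJUnit * (szUnit h he a)⁻¹

theorem szInv_mul_inv (h : SzExp F e) (he : e ≠ 0) (a b : F) :
    (szInv h he a * szInv h he b)⁻¹ = szInv h he b * szInv h he a := by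
  have hj : (szJUnit : GL (Fin 4) F)⁻¹ = szJUnit := Units.ext rfl
  simp only [szInv, _root_.mul_inv_rev, inv_inv, hj, mul_assoc]

theorem szInv_prod_mulVec (h : SzExp F e) (he : e ≠ 0) (a : ℕ → F) : ∀ k ks,
    ((((k :: ks).map fun n => szInv h he (a n)).prod : GL (Fin 4) F) :
        Matrix (Fin 4) (Fin 4) F) *ᵥ ![0, 0, 0, 1] = szU e (a k) *ᵥ szVec e a k ks
  | k, [] => by
    simp only [List.map_cons, List.map_nil, List.prod_cons, List.prod_nil, mul_one, szInv,
      Units.val_mul, ← Matrix.mulVec_mulVec, szVec]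
    show szU e (a k) *ᵥ (szJ *ᵥ (szM e (a k) 0 *ᵥ ![0, 0, 0, 1])) = _
    congr 1
    ext i
    fin_cases i <;> simp [szJ, szM, Matrix.mulVec, dotProduct, Fin.sum_univ_four]
  | k, l :: ks => by
    have ih := szInv_prod_mulVec h he a l ks
    have hM : ((szUnit h he (a k))⁻¹ : GL (Fin 4) F) * (szUnit h he (a l)) =
        (szM e (a k) (a l) : Matrix (Fin 4) (Fin 4) F) := by
      rw [Units.inv_mul_eq_iff_eq_mul]
      exact (szU_mul_szM h _ _).symm
    rw [List.map_cons, List.prod_cons, Units.val_mul, ← Matrix.mulVec_mulVec, ih, szInv,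
      Units.val_mul, Units.val_mul, ← Matrix.mulVec_mulVec, ← Matrix.mulVec_mulVec,
      Matrix.mulVec_mulVec (szVec e a l ks)]
    show szU e (a k) *ᵥ (szJ *ᵥ ((((((szUnit h he (a k))⁻¹ : GL (Fin 4) F)) : Matrix (Fin 4) (Fin 4) F) *
      (szUnit h he (a l) : Matrix (Fin 4) (Fin 4) F)) *ᵥ szVec e a l ks)) = _
    rw [hM]; rfl

theorem degree_mul_coe {p q : F[X]} {a b : ℕ} (hp : p.degree = a) (hq : q.degree = b) :
    (p * q).degree = (a + b : ℕ) := by rw [degree_mul, hp, hq, Nat.cast_add]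

theorem degree_pow_coe {p : F[X]} {a : ℕ} (hp : p.degree = a) (n : ℕ) :
    (p ^ n).degree = (a * n : ℕ) := by rw [degree_pow, hp, nsmul_eq_mul, ← Nat.cast_mul, mul_comm n]

theorem szE_degree {e α β : ℕ} (he : 1 ≤ e) (hα : 1 ≤ α) (hβ : 1 ≤ β) (h : α ≠ β) (h2 : (2 : F) = 0) :
    ((X ^ α + X ^ β : F[X]) ^ (e + 2) + X ^ α * (X ^ α + X ^ β) ^ (e + 1) +
      (X ^ α) ^ e * (X ^ α + X ^ β) ^ 2).degree = ((max α β * (e + 2) : ℕ) : WithBot ℕ) := by
  rcases lt_or_gt_of_ne h with h | h
  · have hc : (X ^ α + X ^ β : F[X]).degree = ((β : ℕ) : WithBot ℕ) := by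
      rw [degree_add_eq_right_of_degree_lt (by simpa using h), degree_X_pow]
    have t1 := degree_pow_coe hc (e + 2)
    have t2 := degree_mul_coe (degree_X_pow (R := F) α) (degree_pow_coe hc (e + 1))
    have t3 := degree_mul_coe (degree_pow_coe (degree_X_pow (R := F) α) e) (degree_pow_coe hc 2)
    rw [max_eq_right h.le, degree_add_eq_left_of_degree_lt, degree_add_eq_left_of_degree_lt, t1]
    · rw [t1, t2]; norm_cast; nlinarith
    · rw [degree_add_eq_left_of_degree_lt]
      · rw [t1, t3]; norm_cast; nlinarith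
      · rw [t1, t2]; norm_cast; nlinarith
  · have hc : (X ^ α + X ^ β : F[X]).degree = ((α : ℕ) : WithBot ℕ) := by
      rw [degree_add_eq_left_of_degree_lt (by simpa using h), degree_X_pow]
    have h2' : (2 : F[X]) = 0 := by rw [← map_ofNat (C : F →+* F[X]) 2, h2, C_0]
    have hre : (X ^ α + X ^ β : F[X]) ^ (e + 2) + X ^ α * (X ^ α + X ^ β) ^ (e + 1) =
        X ^ β * (X ^ α + X ^ β) ^ (e + 1) := by
      linear_combination (X ^ α * (X ^ α + X ^ β : F[X]) ^ (e + 1)) * h2'
    have t2 := degree_mul_coe (degree_X_pow (R := F) β) (degree_pow_coe hc (e + 1))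
    have t3 := degree_mul_coe (degree_pow_coe (degree_X_pow (R := F) α) e) (degree_pow_coe hc 2)
    rw [hre, max_eq_left h.le, degree_add_eq_right_of_degree_lt, t3]
    · congr 1; ring
    · rw [t2, t3]; norm_cast; nlinarith

theorem szVec_degree (h2 : (2 : F) = 0) (he : 1 ≤ e) : ∀ (ks : List ℕ) (k : ℕ),
    (k :: ks).IsChain (· ≠ ·) → ∃ d : ℕ,
      (szVec e (fun n => (X : F[X]) ^ (n + 1)) k ks 0).degree = d ∧
      d ≤ ks.length * ((k :: ks).sum + 1) * (e + 2) ∧
      ∀ i : Fin 4, i ≠ 0 → (szVec e (fun n => (X : F[X]) ^ (n + 1)) k ks i).degree < d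
  | [], k, _ => ⟨0, by simp [szVec], by simp, fun i hi => by fin_cases i <;> simp_all [szVec]⟩
  | l :: ks, k, hch => by
    rw [List.isChain_cons_cons] at hch
    obtain ⟨d, hd, hb, ho⟩ := szVec_degree h2 he ks l hch.2
    have hd' : max (k + 1) (l + 1) * (e + 2) + d ≤
        (l :: ks).length * ((k :: l :: ks).sum + 1) * (e + 2) := by
      simp only [List.sum_cons, List.length_cons] at hb ⊢
      have : max (k + 1) (l + 1) ≤ k + (l + ks.sum) + 1 := by omega
      have := Nat.mul_le_mul_right (e + 2) this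
      have := Nat.mul_le_mul_right (e + 2)
        (Nat.mul_le_mul_left ks.length (show l + ks.sum + 1 ≤ k + (l + ks.sum) + 1 by omega))
      nlinarith
    refine ⟨max (k + 1) (l + 1) * (e + 2) + d, ?_, hd', ?_⟩
    all_goals
      set α := k + 1
      set β := l + 1
      have hαβ : α ≠ β := by simp [α, β, hch.1]
      have hE := szE_degree (F := F) he (α := α) (β := β) (by omega) (by omega) hαβ h2
      set v := szVec e (fun n => (X : F[X]) ^ (n + 1)) l ks
      have hc : (X ^ α + X ^ β : F[X]).degree ≤ ((max α β : ℕ) : WithBot ℕ) :=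
        (degree_add_le _ _).trans (by simp)
      have hB : (X ^ α * (X ^ α + X ^ β) ^ e : F[X]).degree ≤ ((max α β * (e + 1) : ℕ) : WithBot ℕ) := by
        refine (degree_mul_le _ _).trans ?_
        refine (add_le_add (le_of_eq (degree_X_pow α)) ((degree_pow_le _ e).trans (nsmul_le_nsmul_right hc e))).trans ?_
        rw [nsmul_eq_mul]
        norm_cast
        nlinarith [le_max_left α β]
      have hp : ∀ n, ((X ^ α + X ^ β) ^ n : F[X]).degree ≤ ((max α β * n : ℕ) : WithBot ℕ) := by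
        intro n
        refine ((degree_pow_le _ n).trans (nsmul_le_nsmul_right hc n)).trans ?_
        rw [nsmul_eq_mul]; norm_cast; rw [mul_comm]
      have hlt : max α β * (e + 1) < max α β * (e + 2) := by
        apply Nat.mul_lt_mul_of_pos_left (by omega); omega
      have key : ∀ (p q : F[X]) (r : ℕ), p.degree ≤ r → r < max α β * (e + 2) → q.degree ≤ d →
          (p * q).degree < ((max α β * (e + 2) + d : ℕ) : WithBot ℕ) := by
        intro p q r hp hr hq
        refine lt_of_le_of_lt ((degree_mul_le _ _).trans (add_le_add hp hq)) ?_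
        norm_cast; omega
      have h1 := (ho 1 (by decide)).le
      have h2 := (ho 2 (by decide)).le
      have h3 := (ho 3 (by decide)).le
      have one_le : (1 : F[X]).degree ≤ (0 : ℕ) := by simp
      have hpos : 0 < max α β * (e + 2) := by positivity
    · have hw : szVec e (fun n => (X : F[X]) ^ (n + 1)) k (l :: ks) 0 =
          ((X ^ α + X ^ β) ^ (e + 2) + X ^ α * (X ^ α + X ^ β) ^ (e + 1) +
            (X ^ α) ^ e * (X ^ α + X ^ β) ^ 2) * v 0 +
          (X ^ α * (X ^ α + X ^ β) ^ e * v 1 + (X ^ α + X ^ β) * v 2 + 1 * v 3) := by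
        simp [szVec, szJ, szM, Matrix.mulVec, dotProduct, Fin.sum_univ_four, α, β, v]
        ring
      have he' : ((X ^ α + X ^ β) ^ (e + 2) + X ^ α * (X ^ α + X ^ β) ^ (e + 1) +
            (X ^ α) ^ e * (X ^ α + X ^ β) ^ 2 : F[X]).degree + (v 0).degree =
          ((max α β * (e + 2) + d : ℕ) : WithBot ℕ) := by rw [hE, hd]; norm_cast
      rw [hw, degree_add_eq_left_of_degree_lt, degree_mul, he']
      rw [degree_mul, he']
      refine lt_of_le_of_lt (degree_add_le _ _) (max_lt (lt_of_le_of_lt (degree_add_le _ _)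
        (max_lt (key _ _ _ hB hlt h1) ?_)) (key _ _ _ one_le hpos h3))
      exact key _ _ _ (by simpa using hp 1) (by nlinarith [le_max_left α β]) h2
    · intro i hi
      have hc2 : ((X ^ α + X ^ β) ^ (e + 1) + X ^ α * (X ^ α + X ^ β) ^ e : F[X]).degree ≤
          ((max α β * (e + 1) : ℕ) : WithBot ℕ) :=
        (degree_add_le _ _).trans (max_le (hp _) hB)
      fin_cases i
      · exact absurd rfl hi
      · have hw : szVec e (fun n => (X : F[X]) ^ (n + 1)) k (l :: ks) 1 =
            ((X ^ α + X ^ β) ^ (e + 1) + X ^ α * (X ^ α + X ^ β) ^ e) * v 0 +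
              (X ^ α + X ^ β) ^ e * v 1 + 1 * v 2 := by
          simp [szVec, szJ, szM, Matrix.mulVec, dotProduct, Fin.sum_univ_four, α, β, v]
        show (szVec e (fun n => (X : F[X]) ^ (n + 1)) k (l :: ks) 1).degree < _
        rw [hw]
        exact lt_of_le_of_lt (degree_add_le _ _) (max_lt (lt_of_le_of_lt (degree_add_le _ _)
          (max_lt (key _ _ _ hc2 hlt hd.le)
            (key _ _ _ (hp e) (lt_of_le_of_lt (Nat.mul_le_mul_left _ (Nat.le_succ e)) hlt) h1)))
          (key _ _ _ one_le hpos h2))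
      · have hw : szVec e (fun n => (X : F[X]) ^ (n + 1)) k (l :: ks) 2 =
            (X ^ α + X ^ β) ^ 1 * v 0 + 1 * v 1 := by
          simp [szVec, szJ, szM, Matrix.mulVec, dotProduct, Fin.sum_univ_four, α, β, v]
        show (szVec e (fun n => (X : F[X]) ^ (n + 1)) k (l :: ks) 2).degree < _
        rw [hw]
        exact lt_of_le_of_lt (degree_add_le _ _)
          (max_lt (key _ _ _ (hp 1) (by nlinarith [le_max_left α β]) hd.le)
            (key _ _ _ one_le hpos h1))
      · have hw : szVec e (fun n => (X : F[X]) ^ (n + 1)) k (l :: ks) 3 = 1 * v 0 := by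
          simp [szVec, szJ, szM, Matrix.mulVec, dotProduct, Fin.sum_univ_four, α, β, v]
        show (szVec e (fun n => (X : F[X]) ^ (n + 1)) k (l :: ks) 3).degree < _
        rw [hw]
        exact key _ _ _ one_le hpos hd.le

theorem notLaw_suzuki {w : FreeGroup ℕ} (hw : w ≠ 1) [Fintype F] {m : ℕ}
    (hc : Fintype.card F = 2 ^ (2 * m + 1))
    (hm : 4 * (seqOf w).length * ((seqOf w).sum + 1) ≤ m) :
    ∃ f : ℕ → Cfsg.Lie.Sz F (2 ^ (m + 1)), FreeGroup.lift f w ≠ 1 := by
  obtain ⟨k, ks, hks⟩ := List.exists_cons_of_ne_nil (seqOf_ne_nil hw)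
  set e := 2 ^ (m + 1) with hee
  have h := SzExp.of_card hc
  have he : e ≠ 0 := by positivity
  obtain ⟨d, hd, hb, -⟩ := szVec_degree h.two (Nat.one_le_iff_ne_zero.2 he) ks k (hks ▸ seqOf_chain w)
  set P := szVec e (fun n => (X : F[X]) ^ (n + 1)) k ks 0
  have hdq : d < Fintype.card F := by
    rw [hks] at hm
    simp only [List.length_cons] at hm
    have h1 : m + 1 ≤ e := Nat.lt_two_pow_self.le
    have h2 : Fintype.card F * 2 = e * e := by rw [hc, hee, ← pow_succ, ← pow_add]; congr 1; omega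
    refine lt_of_le_of_lt hb ?_
    have h3 : 4 * (ks.length * ((k :: ks).sum + 1)) < e := by nlinarith
    have h4 : 2 ≤ e := by omega
    nlinarith
  obtain ⟨t, ht⟩ : ∃ t, P.eval t ≠ 0 := by
    by_contra hcon
    push Not at hcon
    have hP : P ≠ 0 := fun h0 => by rw [h0, degree_zero] at hd; exact WithBot.bot_ne_coe hd
    have := Polynomial.eq_zero_of_natDegree_lt_card_of_eval_eq_zero P Function.injective_id hcon
      (by rw [natDegree_eq_of_degree_eq_some hd]; exact hdq)
    exact hP this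
  let a : ℕ → F := fun n => t ^ (n + 1)
  let v : ℕ → Cfsg.Lie.Sz F e := fun n => ⟨szInv h he (a n),
    mul_mem (mul_mem (szUnit_mem h he _) (szJUnit_mem h he)) (inv_mem (szUnit_mem h he _))⟩
  refine ⟨fun i => v (2 * i) * v (2 * i + 1), fun h1 => ht ?_⟩
  have h3 : ((seqOf w).map v).prod = 1 := by
    rw [← lift_eq_prod v (fun j l => Subtype.ext (szInv_mul_inv h he _ _)), h1]
  have h4 : ((k :: ks).map fun n => szInv h he (a n)).prod = (1 : GL (Fin 4) F) := by
    have := congrArg (Subgroup.subtype _) h3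
    rw [map_list_prod, List.map_map, hks, map_one] at this
    exact this
  have h5 := congrFun (szInv_prod_mulVec h he a k ks) 0
  rw [h4] at h5
  simp [szU, Matrix.mulVec, dotProduct, Fin.sum_univ_four] at h5
  have h6 := szVec_map (evalRingHom t) e (fun n => (X : F[X]) ^ (n + 1)) k ks 0
  simp only [coe_evalRingHom, eval_pow, eval_X] at h6
  rw [← h6]
  exact h5.symm

end

end CfsgLib.Base.Laws
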