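import Cfsg.Agent.Base.Laws.Embeddings
import Cfsg.Agent.Base.Laws.SL2

/-!
Small groups inside the special unitary groups.
-/

namespace CfsgLib.Base.Laws

open Matrix

section
variable {α : Type*} [CommGroup α] [IsCyclic α] [Finite α]

theorem exists_pow_eq_of_pow_eq_one {a b : ℕ} (h : Nat.card α = a * b) {x : α} (hx : x ^ b = 1) :
    ∃ y : α, y ^ a = x := by
  obtain ⟨g, hg⟩ := IsCyclic.exists_generator (α := α)
  obtain ⟨k, rfl⟩ := hg x
  have hb : (b : ℤ) ≠ 0 := by
    have := Nat.card_pos (α := α)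
    rw [h] at this
    simp only [ne_eq, Nat.cast_eq_zero]
    rintro rfl; simp at this
  have hord : orderOf g = a * b := by rw [orderOf_eq_card_of_forall_mem_zpowers hg, h]
  have hx' : g ^ (k * b) = 1 := by rw [_root_.zpow_mul, zpow_natCast]; exact hx
  rw [← orderOf_dvd_iff_zpow_eq_one, hord, Nat.cast_mul] at hx'
  obtain ⟨j, hj⟩ := (mul_dvd_mul_iff_right hb).1 hx'
  refine ⟨g ^ j, ?_⟩
  show (g ^ j) ^ a = g ^ k
  rw [← zpow_natCast, ← _root_.zpow_mul, hj, mul_comm]

end

variable {F : Type*} [Field F] [Fintype F] {q : ℕ}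

theorem two_le_q (hq : Fintype.card F = q ^ 2) : 2 ≤ q := by
  have := Fintype.one_lt_card (α := F)
  rw [hq] at this
  by_contra h
  interval_cases q <;> simp at this

theorem exists_qHom (hq : Fintype.card F = q ^ 2) : ∃ σ : F →+* F, ∀ x, σ x = x ^ q := by
  obtain ⟨p, hchar, n, hp, hn⟩ := FiniteField.card' F
  have hcard : q ∣ p ^ (n : ℕ) := by rw [← hn, hq]; exact dvd_pow_self _ two_ne_zero
  obtain ⟨k, -, rfl⟩ := (Nat.dvd_prime_pow hp).1 hcard
  have : Fact p.Prime := ⟨hp⟩
  have : CharP F p := hchar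
  exact ⟨iterateFrobenius F p k, fun x => iterateFrobenius_def ..⟩

theorem units_card (hq : Fintype.card F = q ^ 2) : Nat.card Fˣ = (q + 1) * (q - 1) := by
  have h1 : Nat.card Fˣ = q ^ 2 - 1 := by
    rw [Nat.card_units, Nat.card_eq_fintype_card, hq]
  rw [h1]
  simpa using Nat.sq_sub_sq q 1

theorem pow_q_q (hq : Fintype.card F = q ^ 2) (x : F) : (x ^ q) ^ q = x := by
  rw [← pow_mul, ← sq, ← hq, FiniteField.pow_card]

theorem neg_one_pow_sub (hq : Fintype.card F = q ^ 2) : (-1 : F) ^ (q - 1) = 1 := by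
  have h2 := two_le_q hq
  rcases Nat.even_or_odd (q - 1) with h | h
  · exact h.neg_one_pow
  · have hev : Even (Fintype.card F) := by
      rw [hq, Nat.even_pow]
      exact ⟨by obtain ⟨j, hj⟩ := h; exact ⟨j + 1, by omega⟩, two_ne_zero⟩
    have hc : ringChar F = 2 := by
      rw [FiniteField.even_card_iff_char_two]; exact Nat.even_iff.1 hev
    have : CharP F 2 := ringChar.of_eq hc
    rw [CharTwo.neg_eq, one_pow]

theorem neg_one_pow_add (hq : Fintype.card F = q ^ 2) : (-1 : F) ^ (q + 1) = 1 := by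
  have h2 := two_le_q hq
  rw [show q + 1 = (q - 1) + 2 by omega, pow_add, neg_one_pow_sub hq]
  simp

/-- A change of basis turning the Hermitian form into the alternating one. -/
theorem exists_basis (hq : Fintype.card F = q ^ 2) (σ : F →+* F) (hσ : ∀ x, σ x = x ^ q) :
    ∃ (P : Matrix (Fin 2) (Fin 2) F) (c : F), c ≠ 0 ∧
      Pᵀ * P.map σ = c • !![(0 : F), 1; -1, 0] := by
  have h2 := two_le_q hq
  have hsub : q - 1 + 1 = q := by omega
  -- `1 + λ ^ (q + 1) = 0`
  obtain ⟨l, hl⟩ := exists_pow_eq_of_pow_eq_one (α := Fˣ) (units_card hq) (x := -1)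
    (by ext; simpa using neg_one_pow_sub hq)
  obtain ⟨g, hg⟩ := IsCyclic.exists_generator (α := Fˣ)
  have hgo : orderOf g = (q + 1) * (q - 1) := by
    rw [orderOf_eq_card_of_forall_mem_zpowers hg, units_card hq]
  set ζ := g ^ (q - 1) with hζ
  have hζ1 : ζ ≠ 1 := by
    intro h
    have h' := Nat.le_of_dvd (by omega) (orderOf_dvd_of_pow_eq_one h)
    rw [hgo] at h'
    have : 1 * (q - 1) < (q + 1) * (q - 1) := Nat.mul_lt_mul_of_pos_right (by omega) (by omega)
    omega
  have hζq : ζ ^ (q + 1) = 1 := by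
    rw [hζ, ← pow_mul, mul_comm, ← hgo, pow_orderOf_eq_one]
  -- `c ^ q = - c`
  obtain ⟨w, hw⟩ := exists_pow_eq_of_pow_eq_one (α := Fˣ) (a := q - 1) (b := q + 1)
    (by rw [units_card hq, mul_comm]) (x := -1) (by ext; simpa using neg_one_pow_add hq)
  set a : F := (l : F) with ha
  set b : F := ((l * ζ : Fˣ) : F) with hb
  set c : F := (w : F) with hc
  have haq : a ^ (q + 1) = -1 := by simpa using congrArg Units.val hl
  have hbq : b ^ (q + 1) = -1 := by
    have : (l * ζ) ^ (q + 1) = -1 := by rw [mul_pow, hl, hζq, mul_one]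
    rw [hb]; simpa using congrArg Units.val this
  have hcq : c ^ q = -c := by
    have : c ^ (q - 1) = -1 := by simpa using congrArg Units.val hw
    rw [← hsub, pow_succ, this]; ring
  have hab : a ≠ b := by
    intro h
    apply hζ1
    have : l = l * ζ := Units.ext h
    exact (mul_eq_left).1 this.symm
  set z : F := 1 + a * b ^ q with hz
  have hz0 : z ≠ 0 := by
    intro h
    have h1 : a * b ^ q = b * b ^ q := by
      rw [← pow_succ', hbq]; linear_combination h
    exact hab (mul_right_cancel₀ (pow_ne_zero _ (Units.ne_zero _)) h1)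
  have hzq : z ^ q = 1 + a ^ q * b := by
    rw [← hσ, hz, map_add, map_mul, map_one, hσ, hσ, pow_q_q hq]
  set s : F := (c / z) ^ q with hs
  have hsq : s ^ q = c / z := by rw [hs, pow_q_q hq]
  have hszq : s * z ^ q = -c := by
    rw [hs, ← mul_pow, div_mul_cancel₀ _ hz0, hcq]
  refine ⟨!![1, s; a, s * b], c, Units.ne_zero _, ?_⟩
  have haq' : a * a ^ q = -1 := by rw [← pow_succ', haq]
  have hbq' : b * b ^ q = -1 := by rw [← pow_succ', hbq]
  have hcz : s ^ q * z = c := by rw [hsq, div_mul_cancel₀ _ hz0]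
  ext i j
  fin_cases i <;> fin_cases j <;>
    simp [Matrix.mul_apply, Fin.sum_univ_two, hσ, mul_pow]
  · linear_combination haq'
  · linear_combination hcz
  · linear_combination hszq - s * hzq
  · linear_combination (s * s ^ q) * hbq'

/-- the fixed field of `x ↦ x ^ q` -/
def fixedSub (σ : F →+* F) : Subfield F := RingHom.eqLocusField σ (RingHom.id F)

theorem card_fixedSub (hq : Fintype.card F = q ^ 2) (σ : F →+* F) (hσ : ∀ x, σ x = x ^ q) :
    q - 1 ≤ Nat.card (fixedSub σ) := by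
  obtain ⟨g, hg⟩ := IsCyclic.exists_generator (α := Fˣ)
  have h2 := two_le_q hq
  have hgo : orderOf g = (q + 1) * (q - 1) := by
    rw [orderOf_eq_card_of_forall_mem_zpowers hg, units_card hq]
  have hord : orderOf (g ^ (q + 1)) = q - 1 := by
    rw [orderOf_pow' _ (by omega), hgo, Nat.gcd_eq_right (dvd_mul_right _ _),
      Nat.mul_div_cancel_left _ (by omega)]
  rw [← hord, ← Nat.card_zpowers]
  refine Nat.card_le_card_of_injective (fun x => ⟨((x : Fˣ) : F), ?_⟩) ?_
  · show σ _ = _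
    have hx : (x : Fˣ) ^ (q - 1) = 1 := by
      obtain ⟨j, hj⟩ := x.2
      rw [← hj, ← hord]
      show ((g ^ (q + 1)) ^ j) ^ orderOf (g ^ (q + 1)) = 1
      rw [← zpow_natCast, ← _root_.zpow_mul, mul_comm, _root_.zpow_mul, zpow_natCast, pow_orderOf_eq_one,
        _root_.one_zpow]
    have hx' : ((x : Fˣ) : F) ^ (q - 1) = 1 := by simpa using congrArg Units.val hx
    rw [hσ]
    have hq1 : ((x : Fˣ) : F) ^ q = ((x : Fˣ) : F) := by
      have e : q = q - 1 + 1 := by omega
      calc ((x : Fˣ) : F) ^ q = ((x : Fˣ) : F) ^ (q - 1 + 1) := congrArg _ e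
        _ = _ := by rw [pow_succ, hx', one_mul]
    exact hq1
  · intro x y h
    exact Subtype.ext (Units.ext (congrArg Subtype.val h))

theorem herm_eq_dot (n : ℕ) (σ : F →+* F) (hσ : ∀ x, σ x = x ^ q) (M : Matrix (Fin n) (Fin n) F)
    (hM : Mᵀ * M.map σ = 1) (u v : Fin n → F) :
    Cfsg.hermForm n F q (M *ᵥ u) (M *ᵥ v) = Cfsg.hermForm n F q u v := by
  have e : ∀ a b : Fin n → F, Cfsg.hermForm n F q a b = a ⬝ᵥ (fun i => σ (b i)) := by
    intro a b; simp [Cfsg.hermForm, dotProduct, hσ]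
  have e2 : (fun i => σ ((M *ᵥ v) i)) = M.map σ *ᵥ (fun i => σ (v i)) := by
    funext i
    exact RingHom.map_mulVec σ M v i
  rw [e, e, e2, Matrix.dotProduct_mulVec, ← Matrix.vecMul_transpose, Matrix.vecMul_vecMul, hM,
    Matrix.vecMul_one]

theorem exists_alt_to_SU (n : ℕ) (hq : Fintype.card F = q ^ 2) :
    ∃ φ : alternatingGroup (Fin n) →* Cfsg.SU n F q, Function.Injective φ := by
  obtain ⟨σ, hσ⟩ := exists_qHom hq
  refine ⟨(toSLHom _ (permHom_det n F)).codRestrict _ (fun g u v => ?_),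
    fun a b h => permHom_injective n F (congrArg (fun x : Cfsg.SU n F q =>
      ((x : SpecialLinearGroup (Fin n) F) : Matrix (Fin n) (Fin n) F)) h)⟩
  show Cfsg.hermForm n F q (permHom n F g *ᵥ u) (permHom n F g *ᵥ v) = _
  simp only [permHom_mulVec, Cfsg.hermForm, Function.comp]
  exact Equiv.sum_comp (g.1⁻¹ : Equiv.Perm (Fin n)) (fun i => u i * v i ^ q)

theorem exists_SL2_to_SU {n : ℕ} (hn : 2 ≤ n) (hq : Fintype.card F = q ^ 2) :
    ∃ (K : Subfield F) (φ : SpecialLinearGroup (Fin 2) K →* Cfsg.SU n F q),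
      Function.Injective φ ∧ q - 1 ≤ Nat.card K := by
  obtain ⟨σ, hσ⟩ := exists_qHom hq
  obtain ⟨P, c, hc, hP⟩ := exists_basis hq σ hσ
  have hdet : IsUnit P.det := by
    have h := congrArg Matrix.det hP
    simp [Matrix.det_fin_two] at h
    refine isUnit_iff_ne_zero.2 fun h0 => ?_
    rw [Matrix.det_fin_two] at h0
    simp [h0] at h
    exact hc h
  obtain ⟨k, rfl⟩ := Nat.exists_eq_add_of_le hn
  let K := fixedSub σ
  -- conjugation
  let f : SpecialLinearGroup (Fin 2) K →* Matrix (Fin 2) (Fin 2) F :=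
    { toFun := fun A => P * A.1.map K.subtype * P⁻¹
      map_one' := by simp [Matrix.mul_nonsing_inv P hdet]
      map_mul' := fun A B => by
        show P * (A.1 * B.1).map K.subtype * P⁻¹ = _
        rw [Matrix.map_mul]
        simp only [Matrix.mul_assoc, Matrix.nonsing_inv_mul_cancel_left _ _ hdet] }
  have hmapdet : ∀ A : SpecialLinearGroup (Fin 2) K, (A.1.map K.subtype).det = 1 := by
    intro A
    have h := RingHom.map_det K.subtype A.1
    rw [A.2, map_one] at h
    exact h.symm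
  have hfdet : ∀ A, (f A).det = 1 := by
    intro A
    show (P * A.1.map K.subtype * P⁻¹).det = 1
    rw [Matrix.det_mul, Matrix.det_mul, hmapdet, mul_one, ← Matrix.det_mul,
      Matrix.mul_nonsing_inv P hdet, Matrix.det_one]
  have hinv : ∀ A, (f A)ᵀ * (f A).map σ = 1 := by
    intro A
    show (P * A.1.map K.subtype * P⁻¹)ᵀ * (P * A.1.map K.subtype * P⁻¹).map σ = 1
    have hfix : (A.1.map K.subtype).map σ = A.1.map K.subtype := by
      ext i j; exact (A.1 i j).2
    have halt : (A.1.map K.subtype)ᵀ * (c • !![(0 : F), 1; -1, 0]) * A.1.map K.subtype =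
        c • !![(0 : F), 1; -1, 0] := by
      have hd := hmapdet A
      rw [Matrix.det_fin_two] at hd
      rw [Matrix.mul_smul, Matrix.smul_mul]
      congr 1
      ext i j
      fin_cases i <;> fin_cases j <;> simp [Matrix.mul_apply, Fin.sum_univ_two] at hd ⊢
      · ring
      · linear_combination hd
      · linear_combination -hd
      · ring
    rw [Matrix.map_mul, Matrix.map_mul, hfix, Matrix.transpose_mul, Matrix.transpose_mul]
    have e : P⁻¹ᵀ * ((A.1.map K.subtype)ᵀ * Pᵀ) * (P.map σ * A.1.map K.subtype * (P⁻¹).map σ) =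
        P⁻¹ᵀ * ((A.1.map K.subtype)ᵀ * (Pᵀ * P.map σ) * A.1.map K.subtype) * (P⁻¹).map σ := by
      simp only [Matrix.mul_assoc]
    rw [e, hP, halt, ← hP]
    have e2 : P⁻¹ᵀ * (Pᵀ * P.map σ) * (P⁻¹).map σ = (P * P⁻¹)ᵀ * (P * P⁻¹).map σ := by
      rw [Matrix.transpose_mul, Matrix.map_mul]; simp only [Matrix.mul_assoc]
    rw [e2, Matrix.mul_nonsing_inv P hdet]
    simp
  have hfinj : Function.Injective f := by
    intro A B h
    have h1 := congrArg (fun M => P⁻¹ * M * P) h
    simp [f, Matrix.mul_assoc, Matrix.nonsing_inv_mul _ hdet,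
      Matrix.nonsing_inv_mul_cancel_left _ _ hdet] at h1
    exact Subtype.ext (Matrix.map_injective K.subtype.injective h1)
  -- then pad with an identity block
  let g : SpecialLinearGroup (Fin 2) K →* Matrix (Fin (2 + k)) (Fin (2 + k)) F :=
    (blockHom k F).comp (toSLHom f hfdet)
  have hgu : ∀ A, (g A)ᵀ * (g A).map σ = 1 := by
    intro A
    show ((Matrix.fromBlocks (f A) 0 0 1).submatrix finSumFinEquiv.symm finSumFinEquiv.symm)ᵀ *
      ((Matrix.fromBlocks (f A) 0 0 1).submatrix finSumFinEquiv.symm finSumFinEquiv.symm).map σ = 1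
    rw [Matrix.transpose_submatrix, ← Matrix.submatrix_map, Matrix.submatrix_mul_equiv,
      Matrix.fromBlocks_transpose, Matrix.fromBlocks_map, Matrix.fromBlocks_multiply]
    simp [hinv A, Matrix.fromBlocks_one]
  refine ⟨K, (toSLHom g (fun A => blockHom_det k F _)).codRestrict _
    (fun A u v => herm_eq_dot (2 + k) σ hσ (g A) (hgu A) u v), ?_, card_fixedSub hq σ hσ⟩
  intro A B h
  exact hfinj (congrArg Subtype.val (blockHom_injective k F (congrArg (fun x : Cfsg.SU (2 + k) F q =>
      ((x : SpecialLinearGroup (Fin (2 + k)) F) : Matrix (Fin (2 + k)) (Fin (2 + k)) F)) h)))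

end CfsgLib.Base.Laws
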