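import Mathlib

/-!
Free group words as products of generators with no two equal neighbours.
-/

namespace CfsgLib.Base.Laws

/-- A signed letter as a pair of indices. -/
def pairOfLetter : ℕ × Bool → List ℕ
  | (i, true) => [2 * i, 2 * i + 1]
  | (i, false) => [2 * i + 1, 2 * i]

/-- the index sequence of a word -/
def idxSeq (L : List (ℕ × Bool)) : List ℕ := L.flatMap pairOfLetter

theorem head_idxSeq (a : ℕ × Bool) (L : List (ℕ × Bool)) :
    ∃ r, idxSeq (a :: L) = (cond a.2 (2 * a.1) (2 * a.1 + 1)) :: r := by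
  obtain ⟨i, b⟩ := a
  cases b <;> exact ⟨_, rfl⟩

theorem idxSeq_chain : ∀ L : List (ℕ × Bool), FreeGroup.IsReduced L →
    (idxSeq L).IsChain (· ≠ ·)
  | [], _ => List.isChain_nil
  | [(i, b)], _ => by cases b <;> simp [idxSeq, pairOfLetter]
  | (i, b) :: (j, c) :: L, h => by
    rw [FreeGroup.isReduced_cons_cons] at h
    have ih := idxSeq_chain ((j, c) :: L) h.2
    obtain ⟨r, hr⟩ := head_idxSeq (j, c) L
    have e : idxSeq ((i, b) :: (j, c) :: L) = pairOfLetter (i, b) ++ idxSeq ((j, c) :: L) := rfl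
    rw [e, hr]
    rw [hr] at ih
    have h1 := h.1
    cases b <;> cases c <;>
      simp only [pairOfLetter, List.cons_append, List.nil_append, List.isChain_cons_cons,
        cond_true, cond_false] at ih ⊢ <;>
      refine ⟨by omega, fun he => ?_, ih⟩
    · omega
    · exact Bool.noConfusion (h1 (by omega))
    · exact Bool.noConfusion (h1 (by omega))
    · omega

/-- The index sequence attached to an element of the free group. -/
def seqOf (w : FreeGroup ℕ) : List ℕ := idxSeq w.toWord

theorem seqOf_chain (w : FreeGroup ℕ) : (seqOf w).IsChain (· ≠ ·) :=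
  idxSeq_chain _ FreeGroup.isReduced_toWord

theorem seqOf_ne_nil {w : FreeGroup ℕ} (hw : w ≠ 1) : seqOf w ≠ [] := by
  have h : w.toWord ≠ [] := fun h => hw (FreeGroup.toWord_eq_nil_iff.1 h)
  obtain ⟨a, L, he⟩ := List.exists_cons_of_ne_nil h
  obtain ⟨r, hr⟩ := head_idxSeq a L
  rw [seqOf, he, hr]; simp

/-- With `x_i = v (2i) * v (2i+1)` the word becomes the product along its index sequence. -/
theorem lift_eq_prod {G : Type*} [Group G] (v : ℕ → G)
    (hv : ∀ j k, (v j * v k)⁻¹ = v k * v j) (w : FreeGroup ℕ) :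
    FreeGroup.lift (fun i => v (2 * i) * v (2 * i + 1)) w = ((seqOf w).map v).prod := by
  conv_lhs => rw [← FreeGroup.mk_toWord (x := w)]
  rw [FreeGroup.lift_mk, seqOf]
  induction w.toWord with
  | nil => rfl
  | cons a L ih =>
    obtain ⟨i, b⟩ := a
    simp only [List.map_cons, List.prod_cons, ih]
    cases b <;> simp [idxSeq, pairOfLetter, hv, mul_assoc]

/-- a witness form of "the word is not a law modulo the centre" -/
def NotLawModCenter (G : Type*) [Group G] (w : FreeGroup ℕ) : Prop :=
  ∃ (f : ℕ → G) (h : G), FreeGroup.lift f w * h ≠ h * FreeGroup.lift f w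

theorem lift_comp {G H : Type*} [Group G] [Group H] (φ : G →* H) (f : ℕ → G) (w : FreeGroup ℕ) :
    FreeGroup.lift (fun i => φ (f i)) w = φ (FreeGroup.lift f w) := by
  have : FreeGroup.lift (fun i => φ (f i)) = φ.comp (FreeGroup.lift f) :=
    FreeGroup.ext_hom _ _ fun i => by simp
  rw [this]; rfl

theorem NotLawModCenter.of_injective {G H : Type*} [Group G] [Group H] {w : FreeGroup ℕ}
    (h : NotLawModCenter G w) (φ : G →* H) (hφ : Function.Injective φ) : NotLawModCenter H w := by
  obtain ⟨f, g, hfg⟩ := h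
  refine ⟨fun i => φ (f i), φ g, ?_⟩
  rw [lift_comp, ← map_mul, ← map_mul]
  exact fun he => hfg (hφ he)

theorem NotLawModCenter.quotient {G : Type*} [Group G] {w : FreeGroup ℕ}
    (h : NotLawModCenter G w) :
    ∃ f : ℕ → G ⧸ Subgroup.center G, FreeGroup.lift f w ≠ 1 := by
  obtain ⟨f, g, hfg⟩ := h
  refine ⟨fun i => QuotientGroup.mk' (Subgroup.center G) (f i), ?_⟩
  rw [lift_comp]
  intro he
  exact hfg (Subgroup.mem_center_iff.1 ((QuotientGroup.eq_one_iff _).1 he) g).symm

end CfsgLib.Base.Laws
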